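import Groth.Agent.Lead.RegularLocal4

set_option autoImplicit false
set_option linter.unusedSectionVars false

open IsLocalRing Groth.Agent.Lead.RLR

namespace Groth.Agent.H71.Reg

universe u

/-- a regular quotient of dimension `b` of a regular local ring of dimension `n` is cut out by
`c` elements with `b + c ≤ n` -/
theorem exists_span_range_eq (R : Type u) [CommRing R] [IsRegularLocalRing R] (J : Ideal R)
    [IsRegularLocalRing (R ⧸ J)] (n b : ℕ) (hn : ringKrullDim R = n)
    (hb : ringKrullDim (R ⧸ J) = b) :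
    ∃ (c : ℕ) (y : Fin c → R), b + c ≤ n ∧ J = Ideal.span (Set.range y) := by
  classical
  obtain ⟨x, c, hc, hx, hJ⟩ := exists_generators R n hn J
  refine ⟨c, fun i => x (Fin.castLE hc i), ?_, hJ⟩
  -- the maximal ideal of `R ⧸ J` is generated by the images of `x i`, `c ≤ i`
  have hsurj : Function.Surjective (Ideal.Quotient.mk J) := Ideal.Quotient.mk_surjective
  have hmax : maximalIdeal (R ⧸ J) =
      Ideal.span ((fun j : Fin (n - c) => Ideal.Quotient.mk J (x ⟨c + j, by omega⟩)) ''
        Set.univ) := by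
    rw [← map_maximalIdeal_of_surjective (Ideal.Quotient.mk J) hsurj, ← hx, Ideal.map_span]
    apply le_antisymm
    · rw [Ideal.span_le]
      rintro _ ⟨_, ⟨i, rfl⟩, rfl⟩
      by_cases hi : c ≤ (i : ℕ)
      · refine Ideal.subset_span ⟨⟨(i : ℕ) - c, by omega⟩, Set.mem_univ _, ?_⟩
        have : (⟨c + ((i : ℕ) - c), by omega⟩ : Fin n) = i := Fin.ext (by simp; omega)
        simp only [this]
      · have hxi : x i ∈ J := by
          rw [hJ]
          refine Ideal.subset_span ⟨⟨i, by omega⟩, ?_⟩
          simp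
        rw [Ideal.Quotient.eq_zero_iff_mem.mpr hxi]
        exact Submodule.zero_mem _
    · apply Ideal.span_mono
      rintro _ ⟨j, -, rfl⟩
      exact ⟨x ⟨c + j, by omega⟩, ⟨_, rfl⟩, rfl⟩
  have hfin : ((fun j : Fin (n - c) => Ideal.Quotient.mk J (x ⟨c + j, by omega⟩)) ''
      Set.univ).Finite := (Set.toFinite _).image _
  have hcard : ((fun j : Fin (n - c) => Ideal.Quotient.mk J (x ⟨c + j, by omega⟩)) ''
      Set.univ).ncard ≤ n - c := by
    refine (Set.ncard_image_le (Set.toFinite _)).trans ?_
    rw [Set.ncard_univ, Nat.card_fin]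
  have h1 := ringKrullDim_le_spanFinrank_maximalIdeal (R ⧸ J)
  rw [hb, hmax] at h1
  have h2 := Submodule.spanFinrank_span_le_ncard_of_finite (R := R ⧸ J) hfin
  have h3 : b ≤ n - c := by
    have : (b : WithBot ℕ∞) ≤ ((n - c : ℕ) : WithBot ℕ∞) := by
      refine h1.trans ?_
      exact_mod_cast h2.trans hcard
    exact_mod_cast this
  omega

end Groth.Agent.H71.Reg
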