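import Groth.Agent.H71.Reg.Gens

set_option autoImplicit false
set_option linter.unusedSectionVars false

open IsLocalRing Groth.Agent.Lead.RLR

namespace Groth.Agent.H71.Reg

universe u

/-- S14371 -/
theorem isRegularLocalRing_quotient_sup_of_transversal {R : Type u} [CommRing R]
    [IsRegularLocalRing R]
    (I J : Ideal R) [IsRegularLocalRing (R ⧸ I)] [IsRegularLocalRing (R ⧸ J)]
    [IsLocalRing (R ⧸ (I ⊔ J))]
    (n a b : ℕ) (hn : ringKrullDim R = n) (ha : ringKrullDim (R ⧸ I) = a)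
    (hb : ringKrullDim (R ⧸ J) = b)
    (ht : Module.finrank (IsLocalRing.ResidueField (R ⧸ (I ⊔ J)))
      (IsLocalRing.CotangentSpace (R ⧸ (I ⊔ J))) + n = a + b) :
    IsRegularLocalRing (R ⧸ (I ⊔ J)) ∧
      ringKrullDim (R ⧸ (I ⊔ J)) = ((a + b - n : ℕ) : WithBot ℕ∞) := by
  obtain ⟨c, y, hc, hJ⟩ := exists_span_range_eq R J n b hn hb
  -- the image of `J` in `R ⧸ I`
  have hJmap : J.map (Ideal.Quotient.mk I) =
      Ideal.span ((fun i : Fin c => Ideal.Quotient.mk I (y i)) '' Set.univ) := by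
    rw [hJ, Ideal.map_span, Set.image_univ, ← Set.range_comp]
    rfl
  have hsf : (J.map (Ideal.Quotient.mk I)).spanFinrank ≤ c := by
    rw [hJmap]
    refine (Submodule.spanFinrank_span_le_ncard_of_finite ((Set.toFinite _).image _)).trans ?_
    refine (Set.ncard_image_le (Set.toFinite _)).trans ?_
    rw [Set.ncard_univ, Nat.card_fin]
  let e := DoubleQuot.quotQuotEquivQuotSup I J
  have hdim : ringKrullDim ((R ⧸ I) ⧸ J.map (Ideal.Quotient.mk I)) =
      ringKrullDim (R ⧸ (I ⊔ J)) := ringKrullDim_eq_of_ringEquiv e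
  have hne : J.map (Ideal.Quotient.mk I) ≠ ⊤ := by
    intro htop
    have : Nontrivial ((R ⧸ I) ⧸ J.map (Ideal.Quotient.mk I)) := e.toEquiv.nontrivial
    exact (Ideal.Quotient.nontrivial_iff.mp this) htop
  have hjac : J.map (Ideal.Quotient.mk I) ≤ Ring.jacobson (R ⧸ I) := by
    rw [IsLocalRing.ringJacobson_eq_maximalIdeal]
    exact IsLocalRing.le_maximalIdeal hne
  have h1 := ringKrullDim_le_ringKrullDim_quotient_add_spanFinrank _ hjac
  rw [ha, hdim] at h1
  have h2 := ringKrullDim_le_spanFinrank_maximalIdeal (R ⧸ (I ⊔ J))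
  rw [spanFinrank_maximalIdeal_eq_finrank_cotangentSpace] at h2
  obtain ⟨d, hd, hdt⟩ := exists_nat_eq ringKrullDim_nonneg_of_nontrivial h2
  rw [hd] at h1
  have h3 : a ≤ d + c := by
    have : (a : WithBot ℕ∞) ≤ ((d + c : ℕ) : WithBot ℕ∞) := by
      refine h1.trans ?_
      push_cast
      gcongr
    exact_mod_cast this
  have hd' : d = a + b - n := by omega
  have hdt' : d = Module.finrank (IsLocalRing.ResidueField (R ⧸ (I ⊔ J)))
      (IsLocalRing.CotangentSpace (R ⧸ (I ⊔ J))) := by omega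
  refine ⟨?_, by rw [hd, hd']⟩
  rw [IsRegularLocalRing.iff_finrank_cotangentSpace, hd, hdt']

end Groth.Agent.H71.Reg
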